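import Mathlib

/-!
Element orders of the alternating group of degree ten.
-/

set_option autoImplicit false

namespace CfsgLib.Perm57

/-- Non-increasing lists of parts `≥ 2`, at most `M`, with sum at most `b`. -/
def partsUpTo : ℕ → ℕ → ℕ → List (List ℕ)
  | 0, _, _ => [[]]
  | fuel + 1, b, M => [] :: (List.range (min b M + 1)).flatMap fun a =>
      if 2 ≤ a then (partsUpTo fuel (b - a) a).map (a :: ·) else []

theorem mem_partsUpTo (l : List ℕ) : ∀ fuel b M, l.length ≤ fuel → l.sum ≤ b →
    (∀ a ∈ l, 2 ≤ a ∧ a ≤ M) → l.Pairwise (· ≥ ·) → l ∈ partsUpTo fuel b M := by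
  induction l with
  | nil => intro fuel b M _ _ _ _; cases fuel <;> simp [partsUpTo]
  | cons x l ih =>
    intro fuel b M hf hs hb hp
    obtain ⟨fuel, rfl⟩ : ∃ k, fuel = k + 1 := ⟨fuel - 1, by simp at hf; omega⟩
    rw [List.sum_cons] at hs
    have hx := hb x (List.mem_cons_self ..)
    rw [List.pairwise_cons] at hp
    simp only [partsUpTo, List.mem_cons, List.mem_flatMap, List.mem_range]
    refine Or.inr ⟨x, by have := hx.2; omega, ?_⟩
    rw [if_pos hx.1]
    exact List.mem_map_of_mem (ih fuel (b - x) x (by simp at hf; omega) (by omega)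
      (fun a ha => ⟨(hb a (List.mem_cons_of_mem _ ha)).1, hp.1 a ha⟩) hp.2)

theorem alt_ten_parts_check : ∀ l ∈ partsUpTo 5 10 10,
    (l.sum + l.length) % 2 = 0 →
      l.foldr Nat.lcm 1 ∈ [1, 2, 3, 4, 5, 6, 7, 8, 9, 10, 12, 15, 21] := by
  decide +kernel

theorem alt_ten_partitions (m : Multiset ℕ) (h2 : ∀ a ∈ m, 2 ≤ a) (hs : m.sum ≤ 10)
    (he : (m.sum + Multiset.card m) % 2 = 0) :
    m.lcm ∈ [1, 2, 3, 4, 5, 6, 7, 8, 9, 10, 12, 15, 21] := by
  set l := m.sort (· ≥ ·)
  have hl : (l : Multiset ℕ) = m := Multiset.sort_eq m _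
  rw [← hl] at h2 hs he ⊢
  rw [Multiset.sum_coe] at hs he
  rw [Multiset.coe_card] at he
  have h2' : ∀ a ∈ l, 2 ≤ a := fun a ha => h2 a (Multiset.mem_coe.mpr ha)
  have hlen : l.length * 2 ≤ l.sum := by
    clear_value l
    clear hl hs he h2
    induction l with
    | nil => simp
    | cons x l ih =>
      have := h2' x (List.mem_cons_self ..)
      have := ih fun a ha => h2' a (List.mem_cons_of_mem _ ha)
      simp only [List.length_cons, List.sum_cons]
      omega
  have hmem := mem_partsUpTo l 5 10 10 (by omega) hs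
    (fun a ha => ⟨h2' a ha, (List.single_le_sum (fun _ _ => Nat.zero_le _) a ha).trans hs⟩)
    (Multiset.pairwise_sort m _)
  have := alt_ten_parts_check l hmem he
  convert this using 1
  rfl

theorem alt_ten_spectrum :
    Set.range (orderOf : alternatingGroup (Fin 10) → ℕ) =
      {1, 2, 3, 4, 5, 6, 7, 8, 9, 10, 12, 15, 21} := by
  ext n
  constructor
  · rintro ⟨⟨σ, hσ⟩, rfl⟩
    rw [← Subgroup.orderOf_coe, ← Equiv.Perm.lcm_cycleType]
    have hs := Equiv.Perm.sign_of_cycleType σ
    rw [Equiv.Perm.mem_alternatingGroup.mp hσ] at hs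
    have heven : (σ.cycleType.sum + Multiset.card σ.cycleType) % 2 = 0 := by
      rcases Nat.even_or_odd (σ.cycleType.sum + Multiset.card σ.cycleType) with h | h
      · exact Nat.even_iff.mp h
      · rw [h.neg_one_pow] at hs; exact absurd hs (by decide)
    have hsum : σ.cycleType.sum ≤ 10 := by
      rw [Equiv.Perm.sum_cycleType]
      exact (Finset.card_le_univ _).trans_eq (Fintype.card_fin 10)
    simpa using alt_ten_partitions σ.cycleType (fun a ha => Equiv.Perm.two_le_of_mem_cycleType ha)
      hsum heven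
  · intro hn
    have wit : ∀ m : Multiset ℕ, m.sum ≤ 10 → (∀ a ∈ m, 2 ≤ a) →
        (m.sum + Multiset.card m) % 2 = 0 → m.lcm = n →
        n ∈ Set.range (orderOf : alternatingGroup (Fin 10) → ℕ) := by
      intro m h1 h2 h3 h4
      obtain ⟨σ, hσ⟩ := (Equiv.Perm.exists_with_cycleType_iff (Fin 10)).mpr
        ⟨by rw [Fintype.card_fin]; exact h1, h2⟩
      have hs : σ ∈ alternatingGroup (Fin 10) := by
        rw [Equiv.Perm.mem_alternatingGroup, Equiv.Perm.sign_of_cycleType, hσ,
          (Nat.even_iff.mpr h3).neg_one_pow]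
      exact ⟨⟨σ, hs⟩, by rw [← Subgroup.orderOf_coe, ← Equiv.Perm.lcm_cycleType, hσ, h4]⟩
    simp only [Set.mem_insert_iff, Set.mem_singleton_iff] at hn
    rcases hn with rfl | rfl | rfl | rfl | rfl | rfl | rfl | rfl | rfl | rfl | rfl | rfl | rfl
    · exact wit {} (by decide) (by decide) (by decide) rfl
    · exact wit {2, 2} (by decide) (by decide) (by decide) rfl
    · exact wit {3} (by decide) (by decide) (by decide) rfl
    · exact wit {4, 2} (by decide) (by decide) (by decide) rfl
    · exact wit {5} (by decide) (by decide) (by decide) rfl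
    · exact wit {3, 2, 2} (by decide) (by decide) (by decide) rfl
    · exact wit {7} (by decide) (by decide) (by decide) rfl
    · exact wit {8, 2} (by decide) (by decide) (by decide) rfl
    · exact wit {9} (by decide) (by decide) (by decide) rfl
    · exact wit {5, 2, 2} (by decide) (by decide) (by decide) rfl
    · exact wit {4, 3, 2} (by decide) (by decide) (by decide) rfl
    · exact wit {5, 3} (by decide) (by decide) (by decide) rfl
    · exact wit {7, 3} (by decide) (by decide) (by decide) rfl

end CfsgLib.Perm57
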