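import Mathlib

/-!
Bochert's bound on the order of a primitive group.
-/

set_option autoImplicit false

namespace CfsgLib.Perm57

open MulAction Equiv

variable {Ω : Type*} [Fintype Ω] [DecidableEq Ω]

/-- Two permutations whose supports meet in exactly one point have a 3-cycle as commutator. -/
theorem isThreeCycle_comm_of_meet_one (x y : Perm Ω) (D : Finset Ω) (δ : Ω) (hδ : δ ∈ D)
    (hx : ∀ z ∉ D, x z = z) (hy : ∀ z ∈ D.erase δ, y z = z) (hxδ : x δ ≠ δ) (hyδ : y δ ≠ δ) :
    Perm.IsThreeCycle (x * y * x⁻¹ * y⁻¹) := by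
  have hai : ∀ (g : Perm Ω) (z : Ω), g (g⁻¹ z) = z := fun g z => g.apply_symm_apply z
  have hia : ∀ (g : Perm Ω) (z : Ω), g⁻¹ (g z) = z := fun g z => g.symm_apply_apply z
  have hxd : x δ ∈ D.erase δ := by
    refine Finset.mem_erase.mpr ⟨hxδ, ?_⟩
    by_contra h
    exact hxδ (x.injective (hx _ h))
  have hyd : y δ ∉ D := by
    intro h
    exact hyδ (y.injective (hy _ (Finset.mem_erase.mpr ⟨hyδ, h⟩)))
  set c := x * y * x⁻¹ * y⁻¹ with hc
  have e1 : y⁻¹ (x δ) = x δ := Perm.inv_eq_iff_eq.mpr (hy _ hxd).symm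
  have e2 : c (x δ) = y δ := by simp only [hc, Perm.mul_apply, hai, hia, e1, hx _ hyd]
  have hxid : x⁻¹ δ ∈ D.erase δ := by
    refine Finset.mem_erase.mpr ⟨fun h => hxδ ?_, ?_⟩
    · exact (Perm.inv_eq_iff_eq.mp h).symm
    · by_contra h
      have := hx _ h
      rw [hai] at this
      exact h (this ▸ hδ)
  have e3 : c (y δ) = δ := by simp only [hc, Perm.mul_apply, hai, hia, hy _ hxid]
  have hyid : y⁻¹ δ ∉ D := by
    intro h
    have hne : y⁻¹ δ ≠ δ := fun h' => hyδ (Perm.inv_eq_iff_eq.mp h').symm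
    have := hy _ (Finset.mem_erase.mpr ⟨hne, h⟩)
    rw [hai] at this
    exact hne this.symm
  have e4 : x⁻¹ (y⁻¹ δ) = y⁻¹ δ := Perm.inv_eq_iff_eq.mpr (hx _ hyid).symm
  have e5 : c δ = x δ := by simp only [hc, Perm.mul_apply, hai, hia, e4]
  have hne : y δ ≠ x δ := fun h => hyd (h ▸ Finset.mem_of_mem_erase hxd)
  have e6 : ∀ z, z ≠ δ → z ≠ x δ → z ≠ y δ → c z = z := by
    intro z h1 h2 h3
    by_cases hz : z ∈ D
    · have a1 : y⁻¹ z = z :=
        Perm.inv_eq_iff_eq.mpr (hy _ (Finset.mem_erase.mpr ⟨h1, hz⟩)).symm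
      have a2 : x⁻¹ z ∈ D.erase δ := by
        refine Finset.mem_erase.mpr ⟨fun h => h2 (Perm.inv_eq_iff_eq.mp h), ?_⟩
        by_contra h
        have := hx _ h
        rw [hai] at this
        exact h (this ▸ hz)
      simp only [hc, Perm.mul_apply, hai, hia, a1, hy _ a2]
    · have a1 : y⁻¹ z ∉ D := by
        intro h
        have h' : y⁻¹ z ≠ δ := fun h' => h3 (Perm.inv_eq_iff_eq.mp h')
        have := hy _ (Finset.mem_erase.mpr ⟨h', h⟩)
        rw [hai] at this
        exact hz (this ▸ h)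
      have a2 : x⁻¹ (y⁻¹ z) = y⁻¹ z := Perm.inv_eq_iff_eq.mpr (hx _ a1).symm
      simp only [hc, Perm.mul_apply, hai, hia, a2, hx _ hz]
  rw [← card_support_eq_three_iff]
  have : c.support = {δ, x δ, y δ} := by
    ext z
    rw [Perm.mem_support, Finset.mem_insert, Finset.mem_insert, Finset.mem_singleton]
    constructor
    · intro h
      by_contra h'
      push_neg at h'
      exact h (e6 z h'.1 h'.2.1 h'.2.2)
    · rintro (rfl | rfl | rfl)
      · rw [e5]; exact hxδ
      · rw [e2]; exact hne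
      · rw [e3]; exact hyδ.symm
  rw [this]
  exact Finset.card_eq_three.mpr ⟨_, _, _, hxδ.symm, hyδ.symm, hne.symm, rfl⟩

theorem bochert_bound (P : Subgroup (Perm Ω)) [IsPreprimitive P Ω]
    (hA : ¬ alternatingGroup Ω ≤ P) :
    Nat.card P * Nat.factorial ((Fintype.card Ω + 1) / 2) ≤ Nat.factorial (Fintype.card Ω) := by
  classical
  let good : Finset Ω → Prop := fun D => ∀ g ∈ P, (∀ z ∈ D, g z = z) → g = 1
  have huniv : good Finset.univ := fun g _ h => Equiv.ext fun z => h z (Finset.mem_univ z)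
  obtain ⟨D, hDgood, hDmin⟩ : ∃ D, good D ∧ ∀ E, E.card < D.card → ¬ good E := by
    have hex : ∃ n, ∃ D, good D ∧ D.card = n := ⟨_, _, huniv, rfl⟩
    obtain ⟨D, hD, hcard⟩ := Nat.find_spec hex
    exact ⟨D, hD, fun E hE hgood => Nat.find_min hex (hcard ▸ hE) ⟨E, hgood, rfl⟩⟩
  have hhalf : D.card ≤ Dᶜ.card := by
    by_contra hlt
    push_neg at hlt
    have h1 := hDmin _ hlt
    simp only [good] at h1
    push_neg at h1
    obtain ⟨x, hxP, hxfix, hx1⟩ := h1
    obtain ⟨δ, hδ⟩ : ∃ δ, x δ ≠ δ := by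
      by_contra h
      push_neg at h
      exact hx1 (Equiv.ext h)
    have hδD : δ ∈ D := by
      by_contra h
      exact hδ (hxfix δ (Finset.mem_compl.mpr h))
    have h2 := hDmin _ (Finset.card_erase_lt_of_mem hδD)
    simp only [good] at h2
    push_neg at h2
    obtain ⟨y, hyP, hyfix, hy1⟩ := h2
    have hyδ : y δ ≠ δ := by
      intro h
      refine hy1 (hDgood y hyP fun z hz => ?_)
      rcases eq_or_ne z δ with rfl | hne
      · exact h
      · exact hyfix z (Finset.mem_erase.mpr ⟨hne, hz⟩)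
    apply hA
    exact Equiv.Perm.alternatingGroup_le_of_isPreprimitive_of_isThreeCycle_mem inferInstance
      (isThreeCycle_comm_of_meet_one x y D δ hδD
        (fun z hz => hxfix z (Finset.mem_compl.mpr hz)) hyfix hδ hyδ)
      (P.mul_mem (P.mul_mem (P.mul_mem hxP hyP) (P.inv_mem hxP)) (P.inv_mem hyP))
  have hsum : D.card + Dᶜ.card = Fintype.card Ω := Finset.card_add_card_compl D
  have hk : (Fintype.card Ω + 1) / 2 ≤ Dᶜ.card := by omega
  let f : P × Perm {z // z ∉ D} → Perm Ω := fun q => (q.1 : Perm Ω) * Perm.ofSubtype q.2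
  have hf : Function.Injective f := by
    rintro ⟨g, s⟩ ⟨g', s'⟩ h
    simp only [f] at h
    have hmem : Perm.ofSubtype (s * s'⁻¹) ∈ P := by
      rw [map_mul, map_inv, show Perm.ofSubtype s = (g : Perm Ω)⁻¹ * g' * Perm.ofSubtype s' by
        rw [mul_assoc, ← h, inv_mul_cancel_left], mul_inv_cancel_right]
      exact P.mul_mem (P.inv_mem g.2) g'.2
    have hone := hDgood _ hmem (fun z hz => by
      apply Perm.ofSubtype_apply_of_not_mem
      simpa using hz)
    have hs : s = s' := mul_inv_eq_one.mp (Perm.ofSubtype_injective (by rw [hone, map_one]))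
    subst hs
    exact Prod.ext (Subtype.ext (mul_right_cancel h)) rfl
  have hcard := Nat.card_le_card_of_injective f hf
  rw [Nat.card_prod, Nat.card_perm, Nat.card_perm, Nat.card_eq_fintype_card (α := Ω)] at hcard
  have hcompl : Nat.card {z // z ∉ D} = Dᶜ.card := by
    rw [Nat.card_eq_fintype_card]
    apply Fintype.card_of_subtype
    simp
  rw [hcompl] at hcard
  exact le_trans (Nat.mul_le_mul_left _ (Nat.factorial_le hk)) hcard

theorem bochert_bound_action {G : Type*} [Group G] [Finite G] [MulAction G Ω] [FaithfulSMul G Ω]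
    [IsPreprimitive G Ω] (hA : ¬ alternatingGroup Ω ≤ (MulAction.toPermHom G Ω).range) :
    Nat.card G * Nat.factorial ((Fintype.card Ω + 1) / 2) ≤ Nat.factorial (Fintype.card Ω) := by
  set φ := MulAction.toPermHom G Ω with hφ
  have hinj : Function.Injective φ := MulAction.toPerm_injective
  let f : Ω →ₑ[φ.rangeRestrict] Ω := ⟨id, fun _ _ => rfl⟩
  haveI : IsPreprimitive φ.range Ω :=
    IsPreprimitive.of_surjective (f := f) Function.surjective_id
  have := bochert_bound φ.range hA
  rwa [← Nat.card_congr (MonoidHom.ofInjective hinj).toEquiv] at this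

end CfsgLib.Perm57
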