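import Mathlib.GroupTheory.Nilpotent
import Mathlib.GroupTheory.Sylow
import Mathlib.GroupTheory.SpecificGroups.Alternating
import Mathlib.GroupTheory.Perm.Fin
import Mathlib.Data.Nat.Multiplicity
import Mathlib.NumberTheory.Bertrand
import Cfsg.Agent.Solvable.CoprimeIndex

/-!
Alternating and symmetric groups have no nilpotent minimal cover.
-/

set_option autoImplicit false
set_option linter.style.haveILetI false

namespace CfsgLib.NilpotentCover

/-- In a nilpotent group an element of prime order `q`, with `q ^ 2` not dividing the group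
order, is central. -/
theorem commute_of_sq_not_dvd {A : Type*} [Group A] [Finite A] [Group.IsNilpotent A] {q : ℕ}
    [hq : Fact q.Prime] (hsq : ¬ q ^ 2 ∣ Nat.card A) {x : A} (hx : orderOf x = q) (a : A) :
    a * x = x * a := by
  suffices h : Subgroup.centralizer {x} = ⊤ by
    have ha : a ∈ Subgroup.centralizer {x} := h ▸ Subgroup.mem_top a
    exact (Subgroup.mem_centralizer_singleton_iff.1 ha)
  by_contra hne
  rw [← Subgroup.index_eq_one] at hne
  obtain ⟨r, hr, hrd⟩ := Nat.exists_prime_and_dvd hne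
  haveI : Fact r.Prime := ⟨hr⟩
  obtain ⟨P, hP⟩ : ∃ P : Sylow r A, (P : Subgroup A) ≤ Subgroup.centralizer {x} := by
    by_cases hrq : r = q
    · subst hrq
      have h1 : 1 ≤ (Nat.card A).factorization r :=
        (hr.dvd_iff_one_le_factorization Nat.card_pos.ne').1 (hx ▸ orderOf_dvd_natCard x)
      have h2 : ¬ 2 ≤ (Nat.card A).factorization r := fun h =>
        hsq ((hr.pow_dvd_iff_le_factorization Nat.card_pos.ne').2 h)
      refine ⟨Sylow.ofCard (Subgroup.zpowers x) ?_, Subgroup.zpowers_le.2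
        (Subgroup.mem_centralizer_singleton_iff.2 rfl)⟩
      rw [Nat.card_zpowers, hx, show (Nat.card A).factorization r = 1 by omega, pow_one]
    · obtain ⟨P⟩ : Nonempty (Sylow r A) := inferInstance
      refine ⟨P, fun b hb => Subgroup.mem_centralizer_singleton_iff.2 ?_⟩
      obtain ⟨k, hk⟩ := IsPGroup.iff_orderOf.1 P.isPGroup' ⟨b, hb⟩
      apply CfsgLib.Solvable.commute_of_coprime_orderOf
      rw [hx, show orderOf b = r ^ k from (Subgroup.orderOf_mk b hb).symm.trans hk]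
      exact Nat.Coprime.pow_left k ((Nat.coprime_primes hr hq.out).2 hrq)
  have h1 := Subgroup.card_dvd_of_le hP
  rw [P.card_eq_multiplicity] at h1
  have h2 : r ^ ((Nat.card A).factorization r + 1) ∣ Nat.card A := by
    rw [pow_succ]
    exact (Nat.mul_dvd_mul h1 hrd).trans (Subgroup.card_mul_index _).dvd
  rw [hr.pow_dvd_iff_le_factorization Nat.card_pos.ne'] at h2
  omega

/-- Two non-commuting elements of prime order with centralizers in one proper subgroup exclude a
nilpotent minimal cover. -/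
theorem no_nilpotent_minimal_cover {G : Type*} [Group G] [Finite G] {q : ℕ} [Fact q.Prime]
    (hsq : ¬ q ^ 2 ∣ Nat.card G) (x y : G) (hxo : orderOf x = q) (hyo : orderOf y = q)
    (hne : x * y ≠ y * x) (M : Subgroup G) (hM : M ≠ ⊤) (hx : ∀ g, g * x = x * g → g ∈ M)
    (hy : ∀ g, g * y = y * g → g ∈ M) :
    ¬ ∃ 𝓐 : Finset (Subgroup G), ((∀ A ∈ 𝓐, A ≠ ⊤) ∧ (∀ g : G, ∃ A ∈ 𝓐, g ∈ A)) ∧
      (∀ 𝓑 : Finset (Subgroup G), (∀ A ∈ 𝓑, A ≠ ⊤) ∧ (∀ g : G, ∃ A ∈ 𝓑, g ∈ A) →
        𝓐.card ≤ 𝓑.card) ∧ (∀ A ∈ 𝓐, Group.IsNilpotent A) := by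
  classical
  rintro ⟨𝓐, ⟨hprop, hcov⟩, hmin, hnil⟩
  have key : ∀ A ∈ 𝓐, ∀ z ∈ A, orderOf z = q → ∀ g ∈ A, g * z = z * g := by
    intro A hA z hz hzo g hg
    haveI := hnil A hA
    have hsqA : ¬ q ^ 2 ∣ Nat.card A := fun h => hsq (h.trans (Subgroup.card_subgroup_dvd_card A))
    exact congrArg Subtype.val (commute_of_sq_not_dvd hsqA
      (x := (⟨z, hz⟩ : A)) (by rw [Subgroup.orderOf_mk, hzo]) ⟨g, hg⟩)
  obtain ⟨A, hA, hxA⟩ := hcov x
  obtain ⟨B, hB, hyB⟩ := hcov y
  have hAB : A ≠ B := by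
    rintro rfl
    exact hne (key A hA y hyB hyo x hxA)
  have hAM : A ≤ M := fun g hg => hx g (key A hA x hxA hxo g hg)
  have hBM : B ≤ M := fun g hg => hy g (key B hB y hyB hyo g hg)
  have h1 := hmin (insert M ((𝓐.erase A).erase B)) ⟨fun C hC => ?_, fun g => ?_⟩
  · have h2 := Finset.card_insert_le M ((𝓐.erase A).erase B)
    rw [Finset.card_erase_of_mem (Finset.mem_erase.2 ⟨hAB.symm, hB⟩),
      Finset.card_erase_of_mem hA] at h2
    have h3 : 2 ≤ 𝓐.card := Finset.one_lt_card.2 ⟨A, hA, B, hB, hAB⟩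
    omega
  · rcases Finset.mem_insert.1 hC with rfl | hC
    · exact hM
    · exact hprop C (Finset.mem_of_mem_erase (Finset.mem_of_mem_erase hC))
  · obtain ⟨C, hC, hgC⟩ := hcov g
    by_cases hCA : C = A
    · exact ⟨M, Finset.mem_insert_self _ _, hAM (hCA ▸ hgC)⟩
    by_cases hCB : C = B
    · exact ⟨M, Finset.mem_insert_self _ _, hBM (hCB ▸ hgC)⟩
    exact ⟨C, Finset.mem_insert_of_mem (Finset.mem_erase.2 ⟨hCB, Finset.mem_erase.2 ⟨hCA, hC⟩⟩),
      hgC⟩

/-- The same, for a subgroup `K`, with elements given in the ambient group. -/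
theorem no_nilpotent_minimal_cover_subgroup {G : Type*} [Group G] [Finite G] (K : Subgroup G)
    {q : ℕ} [Fact q.Prime] (hsq : ¬ q ^ 2 ∣ Nat.card G) (x y : G) (hxK : x ∈ K) (hyK : y ∈ K)
    (hxo : orderOf x = q) (hyo : orderOf y = q)
    (hne : x * y ≠ y * x) (M : Subgroup G) (hM : ∃ g ∈ K, g ∉ M)
    (hx : ∀ g ∈ K, g * x = x * g → g ∈ M) (hy : ∀ g ∈ K, g * y = y * g → g ∈ M) :
    ¬ ∃ 𝓐 : Finset (Subgroup K), ((∀ A ∈ 𝓐, A ≠ ⊤) ∧ (∀ g : K, ∃ A ∈ 𝓐, g ∈ A)) ∧
      (∀ 𝓑 : Finset (Subgroup K), (∀ A ∈ 𝓑, A ≠ ⊤) ∧ (∀ g : K, ∃ A ∈ 𝓑, g ∈ A) →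
        𝓐.card ≤ 𝓑.card) ∧ (∀ A ∈ 𝓐, Group.IsNilpotent A) := by
  obtain ⟨g, hgK, hgM⟩ := hM
  refine no_nilpotent_minimal_cover (fun h => hsq (h.trans (Subgroup.card_subgroup_dvd_card K)))
    (⟨x, hxK⟩ : K) ⟨y, hyK⟩ (by rw [Subgroup.orderOf_mk, hxo]) (by rw [Subgroup.orderOf_mk, hyo])
    (fun h => hne (congrArg Subtype.val h)) (M.subgroupOf K) (fun h => hgM ?_) ?_ ?_
  · have : (⟨g, hgK⟩ : K) ∈ M.subgroupOf K := h ▸ Subgroup.mem_top _
    exact this
  · exact fun a ha => hx a a.2 (congrArg Subtype.val ha)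
  · exact fun a ha => hy a a.2 (congrArg Subtype.val ha)

/-- The permutations stabilising the final segment starting at `q`. -/
def segStab (n q : ℕ) : Subgroup (Equiv.Perm (Fin n)) where
  carrier := {g | ∀ j : Fin n, q ≤ (g j).val ↔ q ≤ j.val}
  mul_mem' := fun {a b} ha hb j => by rw [Equiv.Perm.mul_apply, ha, hb]
  one_mem' := fun j => Iff.rfl
  inv_mem' := fun {a} ha j => by
    rw [← ha (a⁻¹ j), ← Equiv.Perm.mul_apply, mul_inv_cancel, Equiv.Perm.one_apply]

theorem mem_segStab_of_commute {n q : ℕ} {x : Equiv.Perm (Fin n)}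
    (hfix : ∀ j, x j = j ↔ q ≤ j.val) {g : Equiv.Perm (Fin n)} (h : g * x = x * g) :
    g ∈ segStab n q := fun j => by
  rw [← hfix, ← hfix, ← Equiv.Perm.mul_apply, ← h, Equiv.Perm.mul_apply, g.injective.eq_iff]

/-- The data excluding nilpotent minimal covers, for degree at least six. -/
theorem exists_data {n : ℕ} (hn : 6 ≤ n) :
    ∃ (q : ℕ) (x y : Equiv.Perm (Fin n)), q.Prime ∧ ¬ q ^ 2 ∣ Nat.card (Equiv.Perm (Fin n)) ∧
      x ∈ alternatingGroup (Fin n) ∧ y ∈ alternatingGroup (Fin n) ∧ orderOf x = q ∧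
      orderOf y = q ∧ x * y ≠ y * x ∧
      (∃ g ∈ alternatingGroup (Fin n), g ∉ segStab n q) ∧
      (∀ g, g * x = x * g → g ∈ segStab n q) ∧ ∀ g, g * y = y * g → g ∈ segStab n q := by
  obtain ⟨q, hq, hlt, hle⟩ := Nat.exists_prime_lt_and_le_two_mul (n / 2) (by omega)
  haveI : NeZero n := ⟨by omega⟩
  have hq5 : 5 ≤ q := by
    by_contra h
    obtain rfl : q = 4 := by omega
    exact absurd hq (by decide)
  have hqn : q < n := by
    rcases lt_or_eq_of_le (show q ≤ n by omega) with h | h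
    · exact h
    · exfalso
      rcases Nat.even_or_odd n with ⟨k, hk⟩ | ⟨k, hk⟩
      · have := (hq.dvd_iff_eq (show (2 : ℕ) ≠ 1 by omega)).1 ⟨k, by omega⟩
        omega
      · omega
  let i : Fin n := ⟨q - 1, by omega⟩
  let x : Equiv.Perm (Fin n) := Fin.cycleRange i
  let z : Fin n := ⟨0, by omega⟩
  let u : Fin n := ⟨1, by omega⟩
  let s : Equiv.Perm (Fin n) := Equiv.swap z u
  have hz : z.val = 0 := rfl
  have hu : u.val = 1 := rfl
  let y : Equiv.Perm (Fin n) := MulAut.conj s x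
  have hxlt : ∀ j : Fin n, j.val < q - 1 → (x j).val = j.val + 1 := fun j hj =>
    Fin.coe_cycleRange_of_lt (show j < i from hj)
  have hxi : ∀ j : Fin n, j.val = q - 1 → (x j).val = 0 := fun j hj => by
    rw [show j = i from Fin.ext hj]
    exact congrArg Fin.val (Fin.cycleRange_self i)
  have hxgt : ∀ j : Fin n, q ≤ j.val → x j = j := fun j hj =>
    Fin.cycleRange_of_gt (show i < j from (show q - 1 < j.val by omega))
  have hfix : ∀ j, x j = j ↔ q ≤ j.val := fun j => by
    refine ⟨fun h => ?_, hxgt j⟩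
    by_contra hc
    rcases lt_or_eq_of_le (show j.val ≤ q - 1 by omega) with h1 | h1
    · have := hxlt j h1
      rw [h] at this
      omega
    · have := hxi j h1
      rw [h] at this
      omega
  have hyap : ∀ j, y j = s (x (s j)) := fun j => by
    simp [y, MulAut.conj_apply, s, Equiv.swap_inv]
  have hs : ∀ j : Fin n, q ≤ j.val → s j = j := fun j hj =>
    Equiv.swap_apply_of_ne_of_ne (Fin.ne_of_val_ne (by omega)) (Fin.ne_of_val_ne (by omega))
  have hfixy : ∀ j, y j = j ↔ q ≤ j.val := fun j => by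
    rw [hyap]
    constructor
    · intro h
      have h1 : x (s j) = s j := by
        have := congrArg s h
        rwa [Equiv.swap_apply_self] at this
      have h2 := (hfix _).1 h1
      have h3 := hs (s j) h2
      rw [Equiv.swap_apply_self] at h3
      rwa [← h3] at h2
    · intro h
      rw [hs j h, hxgt j h, hs j h]
  have hxo : orderOf x = q := by
    rw [← Equiv.Perm.lcm_cycleType, Fin.cycleType_cycleRange (by
      simp [i, Fin.ext_iff]; omega)]
    simp [i]
    omega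
  have hsx : Equiv.Perm.sign x = 1 := by
    rw [Fin.sign_cycleRange]
    exact Even.neg_one_pow (Nat.even_sub' (by omega) |>.2 ⟨fun _ => odd_one,
      fun _ => hq.odd_of_ne_two (by omega)⟩)
  refine ⟨q, x, y, hq, ?_, hsx, ?_, hxo, ?_, ?_, ?_,
    fun g => mem_segStab_of_commute hfix, fun g => mem_segStab_of_commute hfixy⟩
  · rw [Nat.card_perm, Nat.card_fin, Nat.Prime.pow_dvd_factorial_iff hq (b := 2)
      (Nat.log_lt_of_lt_pow (by omega) (by have : n < 2 * q := (by omega); nlinarith)), show Finset.Ico 1 2 = {1} from rfl,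
      Finset.sum_singleton, pow_one, not_le, Nat.div_lt_iff_lt_mul hq.pos]
    omega
  · rw [Equiv.Perm.mem_alternatingGroup]
    simp [y, hsx, ← mul_comm (Equiv.Perm.sign s)]
  · exact (orderOf_injective (MulAut.conj s).toMonoidHom (MulAut.conj s).injective x).trans hxo
  · intro h
    have h1 := DFunLike.congr_fun h z
    rw [Equiv.Perm.mul_apply, Equiv.Perm.mul_apply] at h1
    have hx0 : x z = u := Fin.ext (hxlt z (by simp [z]; omega))
    have e2 : x u = (⟨2, by omega⟩ : Fin n) := Fin.ext (hxlt u (by simp [u]; omega))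
    have hy0 : y z = (⟨2, by omega⟩ : Fin n) := by
      rw [hyap, Equiv.swap_apply_left, e2]
      exact Equiv.swap_apply_of_ne_of_ne (by simp [z]) (by simp [u])
    rw [hy0, hx0, hyap u, Equiv.swap_apply_right, hx0, Equiv.swap_apply_right] at h1
    have := congrArg Fin.val h1
    rw [hxlt _ (show 2 < q - 1 by omega)] at this
    simp [z] at this
  · let a : Fin n := ⟨n - 1, by omega⟩
    let b : Fin n := ⟨2, by omega⟩
    refine ⟨Equiv.swap z a * Equiv.swap u b, ?_, fun h => ?_⟩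
    · rw [Equiv.Perm.mem_alternatingGroup, map_mul, Equiv.Perm.sign_swap
        (by simp [z, a, Fin.ext_iff]; omega), Equiv.Perm.sign_swap (by simp [u, b, Fin.ext_iff])]
      decide
    · have h1 := (h z).1
      have hb : b.val = 2 := rfl
      rw [Equiv.Perm.mul_apply,
        Equiv.swap_apply_of_ne_of_ne (Fin.ne_of_val_ne (by omega : z.val ≠ u.val))
          (Fin.ne_of_val_ne (by omega : z.val ≠ b.val)), Equiv.swap_apply_left] at h1
      have := h1 (show q ≤ n - 1 by omega)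
      omega

end CfsgLib.NilpotentCover
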